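import Groth.Agent.H23.DepthRestrict.Res
import Groth.Agent.S1109
import Groth.Agent.Lib.Cyc.CH.DualPullback
import Groth.Agent.Lib.RefHull.LocFree
import Groth.Agent.Lib.KAugNil98.Main
import Groth.Agent.H84.TFCurve.Lattice
import Groth.Agent.Lib.Devissage.Localization
import Groth.Agent.Lib.Exchange.Proper
import Groth.Agent.Lib.ProperFin.Finite
import Groth.Agent.Lib.GenFinite.Regular
import Groth.Agent.Lib.Depth.CM
import Groth.Agent.Lib.LCFin.Cd
import Groth.Agent.Lib.Depth.LocalCoh
import Groth.Agent.Lib.VarDim.Basic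
import Groth.Agent.Lib.Cyc.DimFun
import Groth.Agent.Lib.Curves.GlobalSections

/-!
Finiteness of low cohomology of locally free modules on an open with small complement.
-/

set_option autoImplicit false
set_option linter.style.haveILetI false
set_option maxHeartbeats 1000000

universe u

open CategoryTheory CategoryTheory.Limits AlgebraicGeometry TopologicalSpace Opposite

namespace Groth.Agent.H23.DepthRestrict

open Groth.Agent.Lib

theorem depth_free {R : Type u} [CommRing R] [IsLocalRing R] [IsNoetherianRing R] {M : Type u}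
    [AddCommGroup M] [Module R M] [Module.Free R M] [Module.Finite R M] (n : ℕ)
    (h : (n : ℕ∞) ≤ LocCoh.depth R R) : (n : ℕ∞) ≤ LocCoh.depth R M := by
  rw [Depth.Basic.depth_congr (Module.finBasis R M).equivFun]
  exact (Depth.LocalCoh.le_idealDepth_iff_H _ _ n).2 fun i hi =>
    LCFin.Cd.subsingleton_pi ((Depth.LocalCoh.le_idealDepth_iff_H _ _ n).1 h i hi) _

/-- On a regular variety the depth along a closed set of dimension `≤ s` is at least `n - s`. -/
theorem le_depth_stalk {k : Type u} [Field k] {X : Scheme.{u}} [IsIntegral X]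
    (q : X ⟶ Spec (CommRingCat.of k)) [LocallyOfFiniteType q]
    (hreg : ∀ x : X, IsRegularLocalRing (X.presheaf.stalk x)) {n : ℕ} (hdim : topologicalKrullDim X = n)
    {T : Set X} (hT : IsClosed T) {s : ℕ} (hs : topologicalKrullDim T ≤ (s : WithBot ℕ∞))
    {x : X} (hx : x ∈ T) {m : ℕ} (hm : m + s ≤ n) :
    (m : ℕ∞) ≤ LocCoh.depth (X.presheaf.stalk x) (X.presheaf.stalk x) := by
  haveI : IsLocallyNoetherian X := LocallyOfFiniteType.isLocallyNoetherian q
  have h1 : VarDim.Basic.pdim q x ≤ s := by
    exact_mod_cast (VarDim.Basic.topologicalKrullDim_le_iff q hT.isLocallyClosed _).1 hs x hx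
  have h2 : VarDim.Basic.pdim q (genericPoint X) = n := by
    exact_mod_cast (VarDim.Basic.topologicalKrullDim_irreducibleSpace q).symm.trans hdim
  have h3 := Cyc.DimFun.ringKrullDim_stalk (Cyc.FieldDim.isDimFun_fdelta q) x
  rw [VarDim.Basic.fdelta_eq, VarDim.Basic.fdelta_eq, h2] at h3
  haveI := hreg x
  haveI := GenFinite.Regular.isCohenMacaulayLocalRing (X.presheaf.stalk x)
  rw [Depth.CM.ringKrullDim_eq_depth] at h3
  have h4 : LocCoh.depth (X.presheaf.stalk x) (X.presheaf.stalk x) =
      ((((n : ℤ) - VarDim.Basic.pdim q x).toNat : ℕ) : ℕ∞) := by exact_mod_cast h3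
  rw [h4]
  exact_mod_cast (show m ≤ ((n : ℤ) - VarDim.Basic.pdim q x).toNat by omega)

/-- Isomorphic coherent modules have isomorphic duals. -/
theorem nonempty_dual_congr {X : Scheme.{u}} [IsLocallyNoetherian X] {A B : X.Modules}
    (hA : Coh.IsCoh A) (hB : Coh.IsCoh B) (e : A ≅ B) : Nonempty (RefHull.dual B ≅ RefHull.dual A) := by
  have key : ∀ {P Q : X.Modules} (_ : Coh.IsCoh P) (a : P ⟶ Q) (b : Q ⟶ P), a ≫ b = 𝟙 P →
      Cyc.CH.dualMap b ≫ Cyc.CH.dualMap a = 𝟙 (RefHull.dual P) := by
    intro P Q hP a b hab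
    refine Modules.StalkModule.hom_ext_stalkMapₗ fun x => LinearMap.ext fun θ => ?_
    refine (RefHull.HomSh.evalStalk_bijective hP x).1 ?_
    rw [Modules.StalkModule.stalkMapₗ_comp, LinearMap.comp_apply, Cyc.CH.evalStalk_dualMap,
      Cyc.CH.evalStalk_dualMap, LinearMap.comp_assoc, ← Modules.StalkModule.stalkMapₗ_comp, hab,
      Modules.StalkModule.stalkMapₗ_id, Modules.StalkModule.stalkMapₗ_id]
    rfl
  exact ⟨⟨Cyc.CH.dualMap e.hom, Cyc.CH.dualMap e.inv, key hB e.inv e.hom e.inv_hom_id,
    key hA e.hom e.inv e.hom_inv_id⟩⟩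

section Dual

variable {U : Scheme.{u}} [IsLocallyNoetherian U] {F : U.Modules}

theorem isFinLocFree_dual (hF : FlatMod.IsFinLocFree F) : FlatMod.IsFinLocFree (RefHull.dual F) := by
  have hc := Perfect.Coherent.isCoh_of_isFinLocFree hF
  refine RefHull.LocFree.isFinLocFree (RefHull.Reflexive.isCoh_dual hc) fun x => ?_
  haveI := RefHull.LocFree.free_stalk hF x
  haveI := RefHull.Reflexive.finite_stalk hc x
  exact Module.Free.of_equiv (RefHull.Reflexive.dualStalkEquiv hc x).symm

theorem nonempty_bidual_iso (hF : FlatMod.IsFinLocFree F) :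
    Nonempty (RefHull.dual (RefHull.dual F) ≅ F) := by
  have hc := Perfect.Coherent.isCoh_of_isFinLocFree hF
  haveI : IsIso (RefHull.bidualMap F) := by
    refine (RefHull.Reflexive.isReflexive_iff_forall hc).2 fun x => ?_
    haveI := RefHull.LocFree.free_stalk hF x
    haveI := RefHull.Reflexive.finite_stalk hc x
    show Module.IsReflexive (U.presheaf.stalk x) (F.presheaf.stalk x)
    infer_instance
  exact ⟨(asIso (RefHull.bidualMap F)).symm⟩

end Dual

/-- Finiteness of `H^i(V, F)` for `i + s + 1 < n`. -/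
theorem finite_HH (k : Type u) [Field k] {X : Scheme.{u}} [X.Over (Spec (CommRingCat.of k))]
    [IsProper (X ↘ Spec (CommRingCat.of k))] [IsIntegral X]
    (hreg : ∀ x : X, IsRegularLocalRing (X.presheaf.stalk x)) {n : ℕ} (hdim : topologicalKrullDim X = n)
    (V : X.Opens) {s : ℕ} (hY : topologicalKrullDim ((V : Set X)ᶜ : Set X) ≤ (s : WithBot ℕ∞))
    (F : (V : Scheme.{u}).Modules) (hF : FlatMod.IsFinLocFree F) (i : ℕ) (hi : i + s + 1 < n) :
    Module.Finite k (Coh.HH (V : Scheme.{u}) F i) := by
  haveI := Curves.GlobalSections.isNoetherian_of_proper k X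
  haveI : IsSeparated (X ↘ Spec (CommRingCat.of k)) := inferInstance
  haveI : X.IsSeparated := ⟨by
    rw [show terminal.from X = (X ↘ Spec (CommRingCat.of k)) ≫ terminal.from _ from Subsingleton.elim _ _]
    infer_instance⟩
  have hne : (V : Set X).Nonempty := by
    by_contra h
    rw [Set.not_nonempty_iff_eq_empty] at h
    rw [h, Set.compl_empty, (Homeomorph.Set.univ X).isHomeomorph.topologicalKrullDim_eq, hdim] at hY
    have : n ≤ s := by exact_mod_cast hY
    omega
  haveI : Nonempty (V : Scheme.{u}) := ⟨⟨_, hne.choose_spec⟩⟩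
  haveI : IsIntegral (V : Scheme.{u}) := isIntegral_of_isOpenImmersion V.ι
  haveI : IsLocallyNoetherian (V : Scheme.{u}) := isLocallyNoetherian_of_isOpenImmersion V.ι
  have hres : PerfAux.HasResolutionProperty X :=
    Groth.Agent.S1109.result X hreg fun U W hU hW => hU.inf hW
  -- restrictions of locally free modules on `X`
  have hext : ∀ E : X.Modules, FlatMod.IsFinLocFree E → ∀ j : ℕ, j + s + 1 < n →
      Module.Finite k (Coh.HH (V : Scheme.{u}) (E.restrict V.ι) j) := by
    intro E hE j hj
    have hEc := Perfect.Coherent.isCoh_of_isFinLocFree hE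
    haveI : Module.Finite k (Coh.HH X E j) := ZarCoh.Exchange.Proper.finite_HH k E hEc j
    refine Module.Finite.of_surjective (resL V.ι (A := k) rfl E j)
      (resH_surjective V.ι E j (res_bijective V E hEc (n - s - 1) (fun x hx => ?_) j (by omega) _ _ ?_).2)
    · haveI := RefHull.LocFree.free_stalk hE x
      haveI := RefHull.Reflexive.finite_stalk hEc x
      exact depth_free _ (le_depth_stalk (X ↘ Spec (CommRingCat.of k)) hreg hdim V.2.isClosed_compl hY
        hx (by omega))
    · rw [top_inf_eq]
      exact (Scheme.Hom.image_top_eq_opensRange V.ι).trans (Scheme.Opens.opensRange_ι V)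
  induction i using Nat.strong_induction_on generalizing F with
  | _ i ih =>
    obtain ⟨G, hG, ⟨eG⟩⟩ := Devissage.Localization.exists_extension V.ι
      (RefHull.Reflexive.isCoh_dual (Perfect.Coherent.isCoh_of_isFinLocFree hF))
    obtain ⟨E, π, hE, hπ⟩ := hres G hG.1 hG.2
    haveI := hπ
    let R := Scheme.Modules.restrictFunctor V.ι
    haveI : PreservesFiniteColimits R := inferInstance
    haveI : Epi (R.map π) := inferInstance
    let p : R.obj E ⟶ RefHull.dual F := R.map π ≫ eG.hom
    haveI : Epi p := epi_comp _ _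
    have hEV : FlatMod.IsFinLocFree (R.obj E) := TensorMod.LocFree.isFinLocFree_restrict V.ι hE
    have hD := isFinLocFree_dual hF
    have hK : FlatMod.IsFinLocFree (kernel p) := KAugNil98.Main.isFinLocFree_kernel p hEV hD
    have hS : (ShortComplex.mk (kernel.ι p) p (kernel.condition p)).ShortExact :=
      { exact := ShortComplex.exact_of_f_is_kernel _ (kernelIsKernel p) }
    have hSd := Cyc.CH.shortExact_dual (Perfect.Coherent.isCoh_of_isFinLocFree hK)
      (Perfect.Coherent.isCoh_of_isFinLocFree hEV) (Perfect.Coherent.isCoh_of_isFinLocFree hD)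
      (kernel.ι p) p (kernel.condition p) hS (fun x => RefHull.LocFree.free_stalk hD x)
    -- the middle term
    haveI h2 : Module.Finite k (Coh.HH (V : Scheme.{u}) (RefHull.dual (R.obj E)) i) := by
      have hrk := H84.TFCurve.Lattice.isFinLocFreeOfRank_of_free
        (Perfect.Coherent.isCoh_of_isFinLocFree hE) (fun x => RefHull.LocFree.free_stalk hE x)
      obtain ⟨e⟩ := Cyc.CH.nonempty_pullback_dual_iso V.ι hrk
      haveI : IsLocallyNoetherian X := inferInstance
      haveI := hext (RefHull.dual E) (isFinLocFree_dual hE) i hi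
      refine Module.Finite.equiv (Curves.LES.isoK k (?_ : (RefHull.dual E).restrict V.ι ≅ _) i)
      exact (Scheme.Modules.restrictFunctorIsoPullback V.ι).app _ ≪≫ e ≪≫
        (nonempty_dual_congr (Perfect.Coherent.isCoh_of_isFinLocFree hEV)
          (Perfect.Coherent.isCoh_of_isFinLocFree (TensorMod.LocFree.isFinLocFree_pullback V.ι hE))
          ((Scheme.Modules.restrictFunctorIsoPullback V.ι).app E)).some
    obtain ⟨eF⟩ := nonempty_bidual_iso hF
    suffices Module.Finite k (Coh.HH (V : Scheme.{u}) (RefHull.dual (RefHull.dual F)) i) from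
      Module.Finite.equiv (Curves.LES.isoK k eF i)
    cases i with
    | zero =>
      haveI := hSd.mono_f
      exact Module.Finite.of_injective _
        (Curves.LES.mapK_injective_of_mono k (Cyc.CH.dualMap p))
    | succ i =>
      haveI := ih i (Nat.lt_succ_self i) (RefHull.dual (kernel p)) (isFinLocFree_dual hK) (by omega)
      exact ProperFin.Finite.finite_of_exact (Curves.LES.exactK₁ k hSd i (i + 1) rfl)

end Groth.Agent.H23.DepthRestrict
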