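import Groth.Agent.S6020
import Groth.Agent.H30.LocZ.DepthStalk
import Groth.Agent.Lib.ZarCoh.Morph
import Groth.Agent.Lib.Curves.LES

/-!
Restriction to an open with complement of large depth is bijective in low degrees, linearly.
-/

set_option autoImplicit false
set_option linter.style.haveILetI false

universe u

open CategoryTheory CategoryTheory.Limits AlgebraicGeometry TopologicalSpace Opposite CategoryTheory.Abelian
open Groth.Agent.Lib Groth.Agent.Lib.ZarCoh Groth.Agent.Lib.ZarCoh.Basic

namespace Groth.Agent.H23.DepthRestrict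

variable {X U : Scheme.{u}} (j : U ⟶ X) [IsOpenImmersion j]

section Top

variable {X Y : TopCat.{u}} {e : X ⟶ Y} (he : Topology.IsOpenEmbedding e)

/-- `H^n(Y, F) → H^n(X, F|_X)`. -/
noncomputable def resT (F : CohTop.Ab Y) (n : ℕ) :
    CohTop.H F n →+ CohTop.H ((Compare.rst he).obj F) n :=
  (Compare.hTop ((Compare.rst he).obj F) n).symm.toAddMonoidHom.comp
    ((Compare.restrMap he ⊤ n F).comp
      ((rs F n (le_top : he.functor.obj ⊤ ≤ ⊤)).comp (Compare.hTop F n).toAddMonoidHom))

theorem hTop_resT (F : CohTop.Ab Y) (n : ℕ) (x : CohTop.H F n) :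
    Compare.hTop ((Compare.rst he).obj F) n (resT he F n x) =
      Compare.cmp (Compare.rst he) (Compare.openGen he ⊤) n F
        (rs F n (le_top : he.functor.obj ⊤ ≤ ⊤) (Compare.hTop F n x)) :=
  (Compare.hTop ((Compare.rst he).obj F) n).apply_symm_apply _

theorem resT_surjective (F : CohTop.Ab Y) (n : ℕ)
    (h : Function.Surjective (CohTop.res F n (le_top : he.functor.obj ⊤ ≤ ⊤))) :
    Function.Surjective (resT he F n) :=
  (Compare.hTop _ n).symm.surjective.comp ((Compare.restrMap_bijective he ⊤ n _).2.comp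
    (Function.Surjective.comp (g := rs F n le_top) h (Compare.hTop _ n).surjective))

theorem resT_natural {F G : CohTop.Ab Y} (φ : F ⟶ G) (n : ℕ) (x : CohTop.H F n) :
    resT he G n (Sheaf.H.map φ n x) =
      Sheaf.H.map ((Compare.rst he).map φ) n (resT he F n x) := by
  apply (Compare.hTop ((Compare.rst he).obj G) n).injective
  rw [hTop_resT, Sheaf.H.map_apply, Sheaf.H.map_apply, Compare.hTop_comp, Compare.hTop_comp, hTop_resT,
    rs_apply, rs_apply, ← Ext.comp_assoc_of_third_deg_zero, Compare.cmp_comp, Ext.mapExactFunctor_mk₀]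

end Top

variable {X U : Scheme.{u}} (j : U ⟶ X) [IsOpenImmersion j]

/-- `H^n(X, M) → H^n(U, M|_U)`. -/
noncomputable abbrev resH (M : X.Modules) (n : ℕ) : Coh.HH X M n →+ Coh.HH U (M.restrict j) n :=
  resT j.isOpenEmbedding (Coh.toAb M) n

theorem resH_surjective (M : X.Modules) (n : ℕ)
    (h : Function.Surjective (CohTop.res (Coh.toAb M) n
      (le_top : j.isOpenEmbedding.functor.obj ⊤ ≤ ⊤))) :
    Function.Surjective (resH j M n) :=
  resT_surjective j.isOpenEmbedding _ n h

/-- Restriction of multiplication by a function. -/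
lemma rst_smulAb (M : X.Modules) (r : Coh.Γtop X) :
    (Compare.rst j.isOpenEmbedding).map (Coh.smulAb M r) = Coh.smulAb (M.restrict j) (j.appTop r) := by
  ext V m
  show _ = ((j.appIso V.unop).inv (U.presheaf.map (homOfLE le_top).op (j.appTop r))) •
    (show Γ(M, j ''ᵁ V.unop) from m)
  refine congrArg (fun t : Γ(X, j ''ᵁ V.unop) => t • (show Γ(M, j ''ᵁ V.unop) from m)) ?_
  have h1 : j.appTop ≫ U.presheaf.map (homOfLE (le_top : V.unop ≤ ⊤)).op ≫ (j.appIso V.unop).inv =
      X.presheaf.map (homOfLE (le_top : j ''ᵁ V.unop ≤ ⊤)).op := by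
    rw [Scheme.Hom.appTop, ← Category.assoc, Iso.comp_inv_eq, Scheme.Hom.appIso_hom',
      Scheme.Hom.map_appLE, Scheme.Hom.appLE]
    rfl
  exact (ConcreteCategory.congr_hom h1 r).symm

variable {A : Type u} [CommRing A] [X.Over (Spec (CommRingCat.of A))] [U.Over (Spec (CommRingCat.of A))]
  (hj : j ≫ (X ↘ Spec (CommRingCat.of A)) = U ↘ Spec (CommRingCat.of A))

/-- `H^n(X, M) → H^n(U, M|_U)`, linearly. -/
noncomputable def resL (M : X.Modules) (n : ℕ) : Coh.HH X M n →ₗ[A] Coh.HH U (M.restrict j) n where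
  toFun := resH j M n
  map_add' := map_add _
  map_smul' a x := by
    show resH j M n (Sheaf.H.map (Coh.smulAb M (Coh.toGlobal (X ↘ Spec (CommRingCat.of A)) a)) n x) =
      Sheaf.H.map (Coh.smulAb (M.restrict j) (Coh.toGlobal (U ↘ Spec (CommRingCat.of A)) a)) n
        (resH j M n x)
    erw [resT_natural, rst_smulAb]
    rw [← hj]
    rfl

/-- Bijectivity of restriction in degrees below the depth along the complement. -/
theorem res_bijective [IsLocallyNoetherian X] (V : X.Opens) (M : X.Modules) (hM : Coh.IsCoh M) (N : ℕ)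
    (hdep : ∀ x : X, x ∉ (V : Set X) →
      ((N + 1 : ℕ) : ℕ∞) ≤ LocCoh.depth (X.presheaf.stalk x) (M.presheaf.stalk x))
    (i : ℕ) (hi : i < N) (W : X.Opens) (hW : W ≤ ⊤) (e : W = ⊤ ⊓ V) :
    Function.Bijective (CohTop.res (X := X.carrier) (Coh.toAb M) i hW) := by
  subst e
  exact ((Groth.Agent.S6020.result (X := X.carrier) (Coh.toAb M) V N).1
    (fun q hq => (Groth.Agent.H30.LocZ.DepthStalk.isZero_HZsh_below_iff V hM (N + 1)).2 hdep q
      (by omega)) ⊤).1 i hi

end Groth.Agent.H23.DepthRestrict
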